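import Mathlib
import Cfsg.Prelude.Def_Classical

/-!
# S3466 (helper11): `PSp_4(q)` is not recognizable by spectrum unless `q = 3^(2t+1) > 3` — definitions

For `q = |F|` we build ONE finite group `V ⋊ H` with the spectrum of `PSp_4(q)`, `V ≠ 0` an elementary abelian
`p`-group; `Cfsg.Agent.S3444.result` (a group with a nontrivial solvable normal subgroup has isospectral groups of
unbounded order) then gives the statement.  `K` is a field with `q^2` elements, `φ = (· ^ q)`: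

* `q` even: `V = M₂(K)`, `H = SL₂(K)` acting by `X ↦ g X (φ g)ᵀ`;
* `p ≥ 5`: the same `V`, `H = ⟨PSL₂(K), τ⟩`, `τ X = φ X` (entrywise);
* `q = 9^m`: `V = M₄(K) = M₂(K) ⊗ M₂(K)`, `H = PSL₂(K)` acting by `Z ↦ (g ⊗ φ g) Z (ψ g ⊗ φ g)ᵀ`, `ψ = (· ^ 3)`;
* `q = 3`: `Cfsg.Agent.S3439.result`.

Both spectra are the set of divisors of the numbers in `muList p q`.
-/

set_option autoImplicit false

namespace Cfsg.Agent.Helper11.S4U

open Matrix

/-- the maximal element orders of `PSp_4(q)`, `q` a power of `p` -/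
def muList (p q : ℕ) : List ℕ :=
  if p = 2 then [q ^ 2 - 1, q ^ 2 + 1, 2 * (q - 1), 2 * (q + 1), 4]
  else if p = 3 then [(q ^ 2 - 1) / 2, (q ^ 2 + 1) / 2, 3 * (q - 1), 3 * (q + 1), 9]
  else [(q ^ 2 - 1) / 2, (q ^ 2 + 1) / 2, p * (q - 1), p * (q + 1)]

theorem muList_two (q : ℕ) : muList 2 q = [q ^ 2 - 1, q ^ 2 + 1, 2 * (q - 1), 2 * (q + 1), 4] := by
  simp [muList]

theorem muList_three (q : ℕ) :
    muList 3 q = [(q ^ 2 - 1) / 2, (q ^ 2 + 1) / 2, 3 * (q - 1), 3 * (q + 1), 9] := by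
  simp [muList]

theorem muList_of_five_le (p q : ℕ) (hp : 5 ≤ p) :
    muList p q = [(q ^ 2 - 1) / 2, (q ^ 2 + 1) / 2, p * (q - 1), p * (q + 1)] := by
  have h2 : p ≠ 2 := by omega
  have h3 : p ≠ 3 := by omega
  simp [muList, h2, h3]

/-! ### The semidirect product `V ⋊ H`, `H ≤ (End V)ˣ` -/

section SD

variable (V : Type*) [AddCommGroup V]

/-- a unit of the ring `AddMonoid.End V` of additive endomorphisms as an automorphism of `Multiplicative V` -/
def unitsToMulAut : (AddMonoid.End V)ˣ →* MulAut (Multiplicative V) where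
  toFun u :=
    { toFun := fun x => Multiplicative.ofAdd ((u : AddMonoid.End V) (Multiplicative.toAdd x))
      invFun := fun x => Multiplicative.ofAdd (((u⁻¹ : (AddMonoid.End V)ˣ) : AddMonoid.End V) (Multiplicative.toAdd x))
      left_inv := fun x => by
        show Multiplicative.ofAdd ((((u⁻¹ : (AddMonoid.End V)ˣ) : AddMonoid.End V) * (u : AddMonoid.End V))
          (Multiplicative.toAdd x)) = x
        rw [Units.inv_mul]; rfl
      right_inv := fun x => by
        show Multiplicative.ofAdd (((u : AddMonoid.End V) * ((u⁻¹ : (AddMonoid.End V)ˣ) : AddMonoid.End V))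
          (Multiplicative.toAdd x)) = x
        rw [Units.mul_inv]; rfl
      map_mul' := fun x y => by
        show Multiplicative.ofAdd ((u : AddMonoid.End V) (Multiplicative.toAdd x + Multiplicative.toAdd y)) = _
        rw [map_add]; rfl }
  map_one' := by ext x; rfl
  map_mul' u v := by ext x; rfl

variable {V}

theorem unitsToMulAut_apply (u : (AddMonoid.End V)ˣ) (v : V) :
    unitsToMulAut V u (Multiplicative.ofAdd v) = Multiplicative.ofAdd ((u : AddMonoid.End V) v) := rfl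

/-- `V ⋊ H` -/
abbrev SD (H : Subgroup (AddMonoid.End V)ˣ) : Type _ :=
  Multiplicative V ⋊[(unitsToMulAut V).comp H.subtype] H

/-- the element `(v, h)` of `V ⋊ H` -/
def SD.mk {H : Subgroup (AddMonoid.End V)ˣ} (v : V) (h : H) : SD H := ⟨Multiplicative.ofAdd v, h⟩

/-- `1 + f + ⋯ + f^(m-1)` -/
def nsum (f : AddMonoid.End V) (m : ℕ) : AddMonoid.End V := ∑ i ∈ Finset.range m, f ^ i

end SD

/-! ### The module `M₂(K)` -/

section M2

variable {K : Type*} [Field K]

/-- `2 × 2` matrices -/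
abbrev M2 (K : Type*) := Matrix (Fin 2) (Fin 2) K

/-- `X ↦ a X (φ a)ᵀ` as an additive endomorphism of `M₂(K)` -/
def rhoEnd (φ : K →+* K) (a : M2 K) : AddMonoid.End (M2 K) where
  toFun X := a * X * (a.map φ)ᵀ
  map_zero' := by simp
  map_add' X Y := by simp [mul_add, add_mul]

theorem rhoEnd_apply (φ : K →+* K) (a X : M2 K) : rhoEnd φ a X = a * X * (a.map φ)ᵀ := rfl

theorem rhoEnd_one (φ : K →+* K) : rhoEnd φ (1 : M2 K) = 1 := by
  ext X : 1
  simp [rhoEnd_apply]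

theorem rhoEnd_mul (φ : K →+* K) (a b : M2 K) : rhoEnd φ (a * b) = rhoEnd φ a * rhoEnd φ b := by
  ext X : 1
  show (a * b) * X * ((a * b).map φ)ᵀ = a * (b * X * (b.map φ)ᵀ) * (a.map φ)ᵀ
  rw [Matrix.map_mul, Matrix.transpose_mul]
  simp only [Matrix.mul_assoc]

/-- `g ↦ (X ↦ g X (φ g)ᵀ)`, `SL₂(K) → (End M₂(K))ˣ` -/
def rho (φ : K →+* K) : Matrix.SpecialLinearGroup (Fin 2) K →* (AddMonoid.End (M2 K))ˣ where
  toFun g :=
    { val := rhoEnd φ (g : M2 K)
      inv := rhoEnd φ ((g⁻¹ : Matrix.SpecialLinearGroup (Fin 2) K) : M2 K)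
      val_inv := by
        rw [← rhoEnd_mul, ← Matrix.SpecialLinearGroup.coe_mul, mul_inv_cancel,
          Matrix.SpecialLinearGroup.coe_one, rhoEnd_one]
      inv_val := by
        rw [← rhoEnd_mul, ← Matrix.SpecialLinearGroup.coe_mul, inv_mul_cancel,
          Matrix.SpecialLinearGroup.coe_one, rhoEnd_one] }
  map_one' := by
    apply Units.ext
    show rhoEnd φ ((1 : Matrix.SpecialLinearGroup (Fin 2) K) : M2 K) = 1
    rw [Matrix.SpecialLinearGroup.coe_one, rhoEnd_one]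
  map_mul' g h := by
    apply Units.ext
    show rhoEnd φ ((g * h : Matrix.SpecialLinearGroup (Fin 2) K) : M2 K) = rhoEnd φ g * rhoEnd φ h
    rw [Matrix.SpecialLinearGroup.coe_mul, rhoEnd_mul]

theorem rho_val (φ : K →+* K) (g : Matrix.SpecialLinearGroup (Fin 2) K) :
    ((rho φ g : (AddMonoid.End (M2 K))ˣ) : AddMonoid.End (M2 K)) = rhoEnd φ (g : M2 K) := rfl

/-- entrywise `φ` -/
def tauEnd (φ : K →+* K) : AddMonoid.End (M2 K) where
  toFun X := X.map φ
  map_zero' := by ext i j; simp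
  map_add' X Y := by ext i j; simp

theorem tauEnd_apply (φ : K →+* K) (X : M2 K) : tauEnd φ X = X.map φ := rfl

theorem tauEnd_mul_self (φ : K →+* K) (hφ : ∀ x, φ (φ x) = x) : tauEnd φ * tauEnd φ = 1 := by
  ext X i j
  show φ (φ (X i j)) = X i j
  exact hφ _

/-- `τ`, for an involutory `φ` -/
def tau (φ : K →+* K) (hφ : ∀ x, φ (φ x) = x) : (AddMonoid.End (M2 K))ˣ where
  val := tauEnd φ
  inv := tauEnd φ
  val_inv := tauEnd_mul_self φ hφ
  inv_val := tauEnd_mul_self φ hφ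

theorem tau_val (φ : K →+* K) (hφ : ∀ x, φ (φ x) = x) :
    ((tau φ hφ : (AddMonoid.End (M2 K))ˣ) : AddMonoid.End (M2 K)) = tauEnd φ := rfl

/-- `H = PSL₂(K)` (`= SL₂(K)` in characteristic 2) inside `(End M₂(K))ˣ` -/
def HE (φ : K →+* K) : Subgroup (AddMonoid.End (M2 K))ˣ := (rho φ).range

/-- `H = ⟨PSL₂(K), τ⟩` -/
def HT (φ : K →+* K) (hφ : ∀ x, φ (φ x) = x) : Subgroup (AddMonoid.End (M2 K))ˣ :=
  (rho φ).range ⊔ Subgroup.zpowers (tau φ hφ)

end M2

/-! ### The module `M₄(K) = M₂(K) ⊗ M₂(K)` -/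

section M4

variable {K : Type*} [Field K]

/-- `4 × 4` matrices, indexed by pairs -/
abbrev M4 (K : Type*) := Matrix (Fin 2 × Fin 2) (Fin 2 × Fin 2) K

/-- `Z ↦ (a ⊗ φ a) Z (ψ a ⊗ φ a)ᵀ` -/
def rho4End (ψ φ : K →+* K) (a : M2 K) : AddMonoid.End (M4 K) where
  toFun Z := (Matrix.kroneckerMap (· * ·) a (a.map φ)) * Z *
    (Matrix.kroneckerMap (· * ·) (a.map ψ) (a.map φ))ᵀ
  map_zero' := by simp
  map_add' X Y := by simp [mul_add, add_mul]

theorem rho4End_apply (ψ φ : K →+* K) (a : M2 K) (Z : M4 K) :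
    rho4End ψ φ a Z = (Matrix.kroneckerMap (· * ·) a (a.map φ)) * Z *
      (Matrix.kroneckerMap (· * ·) (a.map ψ) (a.map φ))ᵀ := rfl

theorem rho4End_one (ψ φ : K →+* K) : rho4End ψ φ (1 : M2 K) = 1 := by
  ext Z : 1
  rw [rho4End_apply]
  have h1 : ((1 : M2 K).map φ) = 1 := by simp
  have h2 : ((1 : M2 K).map ψ) = 1 := by simp
  rw [h1, h2]
  have h3 : Matrix.kroneckerMap (· * ·) (1 : M2 K) (1 : M2 K) = 1 := Matrix.one_kronecker_one
  rw [h3]
  simp

theorem rho4End_mul (ψ φ : K →+* K) (a b : M2 K) :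
    rho4End ψ φ (a * b) = rho4End ψ φ a * rho4End ψ φ b := by
  ext Z : 1
  show _ = rho4End ψ φ a (rho4End ψ φ b Z)
  simp only [rho4End_apply]
  rw [Matrix.map_mul, Matrix.map_mul]
  have h1 : Matrix.kroneckerMap (· * ·) (a * b) (a.map φ * b.map φ) =
      Matrix.kroneckerMap (· * ·) a (a.map φ) * Matrix.kroneckerMap (· * ·) b (b.map φ) :=
    Matrix.mul_kronecker_mul a b (a.map φ) (b.map φ)
  have h2 : Matrix.kroneckerMap (· * ·) (a.map ψ * b.map ψ) (a.map φ * b.map φ) =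
      Matrix.kroneckerMap (· * ·) (a.map ψ) (a.map φ) * Matrix.kroneckerMap (· * ·) (b.map ψ) (b.map φ) :=
    Matrix.mul_kronecker_mul (a.map ψ) (b.map ψ) (a.map φ) (b.map φ)
  rw [h1, h2, Matrix.transpose_mul]
  simp only [Matrix.mul_assoc]

/-- `g ↦ (Z ↦ (g ⊗ φ g) Z (ψ g ⊗ φ g)ᵀ)`, `SL₂(K) → (End M₄(K))ˣ` -/
def rho4 (ψ φ : K →+* K) : Matrix.SpecialLinearGroup (Fin 2) K →* (AddMonoid.End (M4 K))ˣ where
  toFun g :=
    { val := rho4End ψ φ (g : M2 K)
      inv := rho4End ψ φ ((g⁻¹ : Matrix.SpecialLinearGroup (Fin 2) K) : M2 K)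
      val_inv := by
        rw [← rho4End_mul, ← Matrix.SpecialLinearGroup.coe_mul, mul_inv_cancel,
          Matrix.SpecialLinearGroup.coe_one, rho4End_one]
      inv_val := by
        rw [← rho4End_mul, ← Matrix.SpecialLinearGroup.coe_mul, inv_mul_cancel,
          Matrix.SpecialLinearGroup.coe_one, rho4End_one] }
  map_one' := by
    apply Units.ext
    show rho4End ψ φ ((1 : Matrix.SpecialLinearGroup (Fin 2) K) : M2 K) = 1
    rw [Matrix.SpecialLinearGroup.coe_one, rho4End_one]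
  map_mul' g h := by
    apply Units.ext
    show rho4End ψ φ ((g * h : Matrix.SpecialLinearGroup (Fin 2) K) : M2 K) =
      rho4End ψ φ g * rho4End ψ φ h
    rw [Matrix.SpecialLinearGroup.coe_mul, rho4End_mul]

theorem rho4_val (ψ φ : K →+* K) (g : Matrix.SpecialLinearGroup (Fin 2) K) :
    ((rho4 ψ φ g : (AddMonoid.End (M4 K))ˣ) : AddMonoid.End (M4 K)) = rho4End ψ φ (g : M2 K) := rfl

/-- `H = PSL₂(K)` inside `(End M₄(K))ˣ` -/
def H4 (ψ φ : K →+* K) : Subgroup (AddMonoid.End (M4 K))ˣ := (rho4 ψ φ).range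

end M4

/-! ### `Good`: the upper-bound predicate -/

section Good

variable {V : Type*} [AddCommGroup V]

/-- `Good p L f`: for the additive automorphism `f` of the elementary abelian `p`-group `V`, every element `(v, f)` of
a semidirect product `V ⋊ H`, `f ∈ H`, has order dividing a member of `L`: either `f ^ m = 1` and
`1 + f + ⋯ + f^(m-1) = 0` for some `m` dividing a member of `L`, or `f ^ m = 1` with `p * m` dividing a member of `L` -/
def Good (p : ℕ) (L : List ℕ) (f : AddMonoid.End V) : Prop :=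
  (∃ m M, f ^ m = 1 ∧ nsum f m = 0 ∧ M ∈ L ∧ m ∣ M) ∨ (∃ m M, f ^ m = 1 ∧ M ∈ L ∧ p * m ∣ M)

theorem good_iff (p : ℕ) (L : List ℕ) (f : AddMonoid.End V) :
    Good p L f ↔ ((∃ m M, f ^ m = 1 ∧ nsum f m = 0 ∧ M ∈ L ∧ m ∣ M) ∨ (∃ m M, f ^ m = 1 ∧ M ∈ L ∧ p * m ∣ M)) :=
  Iff.rfl

theorem nsum_def (f : AddMonoid.End V) (m : ℕ) : nsum f m = ∑ i ∈ Finset.range m, f ^ i := rfl

theorem SD.mk_def {H : Subgroup (AddMonoid.End V)ˣ} (v : V) (h : H) :
    (SD.mk v h : SD H) = ⟨Multiplicative.ofAdd v, h⟩ := rfl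

theorem SD.exists_mk {H : Subgroup (AddMonoid.End V)ˣ} (x : SD H) : ∃ v h, x = SD.mk v h :=
  ⟨Multiplicative.toAdd x.left, x.right, rfl⟩

theorem nsum_succ' (f : AddMonoid.End V) (m : ℕ) : nsum f (m + 1) = 1 + f * nsum f m := by
  rw [nsum_def, nsum_def, Finset.sum_range_succ', Finset.mul_sum, pow_zero, add_comm]
  congr 1
  apply Finset.sum_congr rfl
  intro i _
  rw [pow_succ']

theorem SD.mk_mul_mk {H : Subgroup (AddMonoid.End V)ˣ} (v w : V) (h k : H) :
    (SD.mk v h : SD H) * SD.mk w k =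
      SD.mk (v + (((h : (AddMonoid.End V)ˣ)) : AddMonoid.End V) w) (h * k) := rfl

theorem SD.one_eq {H : Subgroup (AddMonoid.End V)ˣ} : (1 : SD H) = SD.mk 0 1 := rfl

theorem SD.mk_left {H : Subgroup (AddMonoid.End V)ˣ} (v : V) (h : H) :
    (SD.mk v h : SD H).left = Multiplicative.ofAdd v := rfl

theorem SD.mk_right {H : Subgroup (AddMonoid.End V)ˣ} (v : V) (h : H) :
    (SD.mk v h : SD H).right = h := rfl

/-- `(v, h)^m = ((1 + h + ⋯ + h^(m-1)) v, h^m)` -/
theorem SD.mk_pow {H : Subgroup (AddMonoid.End V)ˣ} (v : V) (h : H) (m : ℕ) :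
    (SD.mk v h : SD H) ^ m =
      SD.mk (nsum (((h : (AddMonoid.End V)ˣ)) : AddMonoid.End V) m v) (h ^ m) := by
  induction m with
  | zero =>
    rw [pow_zero, pow_zero, nsum_def, Finset.sum_range_zero]
    rfl
  | succ m ih =>
    rw [pow_succ', ih, SD.mk_mul_mk, nsum_succ', pow_succ']
    rfl

end Good

/-! ### Some elements of `SL₂(K)` -/

section Elts

variable {K : Type*} [Field K]

/-- `c ↦ diag(c, c⁻¹)` -/
def dgHom : Kˣ →* Matrix.SpecialLinearGroup (Fin 2) K where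
  toFun c := ⟨!![(c : K), 0; 0, ((c⁻¹ : Kˣ) : K)], by simp [Matrix.det_fin_two]⟩
  map_one' := by
    apply Subtype.ext
    ext i j
    fin_cases i <;> fin_cases j <;> simp
  map_mul' a b := by
    apply Subtype.ext
    show !![((a * b : Kˣ) : K), 0; 0, (((a * b)⁻¹ : Kˣ) : K)] =
      !![(a : K), 0; 0, ((a⁻¹ : Kˣ) : K)] * !![(b : K), 0; 0, ((b⁻¹ : Kˣ) : K)]
    rw [Matrix.mul_fin_two]
    simp [mul_comm]

theorem dgHom_val (c : Kˣ) :
    ((dgHom c : Matrix.SpecialLinearGroup (Fin 2) K) : M2 K) = !![(c : K), 0; 0, ((c⁻¹ : Kˣ) : K)] := rfl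

/-- `[[0, a], [-a⁻¹, 0]]` -/
def anti (a : Kˣ) : Matrix.SpecialLinearGroup (Fin 2) K :=
  ⟨!![0, (a : K); -((a⁻¹ : Kˣ) : K), 0], by simp [Matrix.det_fin_two]⟩

theorem anti_val (a : Kˣ) :
    ((anti a : Matrix.SpecialLinearGroup (Fin 2) K) : M2 K) = !![0, (a : K); -((a⁻¹ : Kˣ) : K), 0] := rfl

/-- `[[1, 1], [0, 1]]` -/
def uni : Matrix.SpecialLinearGroup (Fin 2) K :=
  ⟨!![1, 1; 0, 1], by simp [Matrix.det_fin_two]⟩

theorem uni_val : ((uni : Matrix.SpecialLinearGroup (Fin 2) K) : M2 K) = !![1, 1; 0, 1] := rfl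

/-- the quartic `X⁴ - a X³ + b X² - a X + 1` -/
noncomputable def quartic (a b : K) : Polynomial K :=
  Polynomial.X ^ 4 - Polynomial.C a * Polynomial.X ^ 3 + Polynomial.C b * Polynomial.X ^ 2
    - Polynomial.C a * Polynomial.X + 1

theorem quartic_def (a b : K) : quartic a b =
    Polynomial.X ^ 4 - Polynomial.C a * Polynomial.X ^ 3 + Polynomial.C b * Polynomial.X ^ 2
      - Polynomial.C a * Polynomial.X + 1 := rfl

/-- the quadratic `X² - y X + 1` -/
noncomputable def quad (y : K) : Polynomial K :=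
  Polynomial.X ^ 2 - Polynomial.C y * Polynomial.X + 1

theorem quad_def (y : K) : quad y = Polynomial.X ^ 2 - Polynomial.C y * Polynomial.X + 1 := rfl

end Elts

end Cfsg.Agent.Helper11.S4U
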